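import Groth.Agent.CMPointLib.Basic
import Groth.Agent.LC.GorQuot
import Groth.Agent.LC.GorFlat
import Groth.Agent.GrLib8.GrCM
import Groth.Agent.GrLib8.SegCMRing
import Groth.Agent.GrLib8.StarGorConv

/-! Cohen–Macaulay and Gorenstein rings modulo a regular element. -/

set_option autoImplicit false
set_option linter.unusedSectionVars false

universe u

open IsLocalRing
open scoped Pointwise

namespace Groth.Agent.FiltExt

theorem isCMLocal_quot {R : Type u} [CommRing R] [IsLocalRing R] [IsNoetherianRing R] {x : R}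
    (hx : x ∈ maximalIdeal R) (hreg : IsSMulRegular R x) [h : LocCoh.IsCohenMacaulayLocalRing R]
    [IsLocalRing (R ⧸ Ideal.span {x})] : LocCoh.IsCohenMacaulayLocalRing (R ⧸ Ideal.span {x}) := by
  refine { supportDim_eq_depth := ?_ }
  have hmax : (maximalIdeal R).map (Ideal.Quotient.mk (Ideal.span {x})) = maximalIdeal (R ⧸ Ideal.span {x}) :=
    map_maximalIdeal_of_surjective _ Ideal.Quotient.mk_surjective
  have hspan : Ideal.span {x} = x • (⊤ : Ideal R) := by simp [← Submodule.ideal_span_singleton_smul]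
  have h2 : LocCoh.idealDepth (maximalIdeal R) (QuotSMulTop x R) =
      LocCoh.depth (R ⧸ Ideal.span {x}) (R ⧸ Ideal.span {x}) := by
    rw [LocCoh.depth, ← hmax, ← LC.idealDepth_quot_self_le]
    exact LC.idealDepth_congr _ (Submodule.quotEquivOfEq _ _ hspan.symm)
  have h1 := h.supportDim_eq_depth
  rw [Module.supportDim_self_eq_ringKrullDim,
    ← ringKrullDim_quotient_span_singleton_succ_eq_ringKrullDim hreg hx, ← Module.supportDim_self_eq_ringKrullDim,
    LocCoh.depth, ← LC.idealDepth_quotSMulTop_add_one (maximalIdeal R) (M := R) hx hreg, h2, WithBot.coe_add] at h1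
  exact ENat.WithBot.add_one_cancel.1 h1

/-- Localising the quotient by a regular element. -/
theorem exists_quot_equiv {S : Type u} [CommRing S] {f : S} (hf : f ∈ nonZeroDivisors S)
    (n : Ideal (S ⧸ Ideal.span {f})) [n.IsPrime] (L : Type u) [CommRing L] [Algebra S L]
    [IsLocalization.AtPrime L (n.comap (Ideal.Quotient.mk (Ideal.span {f})))] :
    IsSMulRegular L (algebraMap S L f) ∧
      Nonempty (Localization.AtPrime n ≃+* L ⧸ Ideal.span {algebraMap S L f}) := by
  let I := Ideal.span {f}
  let p := n.comap (Ideal.Quotient.mk I)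
  let g := algebraMap S L
  refine ⟨?_, ?_⟩
  · intro a b hab
    obtain ⟨⟨a₁, s⟩, rfl⟩ := IsLocalization.mk'_surjective p.primeCompl a
    obtain ⟨⟨b₁, t⟩, rfl⟩ := IsLocalization.mk'_surjective p.primeCompl b
    simp only [smul_eq_mul, ← IsLocalization.mk'_one (M := p.primeCompl) L f, ← IsLocalization.mk'_mul, one_mul,
      IsLocalization.eq] at hab
    obtain ⟨c, hc⟩ := hab
    refine IsLocalization.eq.mpr ⟨c, ?_⟩
    refine (mul_cancel_left_mem_nonZeroDivisors hf).mp ?_
    linear_combination hc
  · have hmap : Algebra.algebraMapSubmonoid (S ⧸ I) p.primeCompl = n.primeCompl := by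
      ext y
      constructor
      · rintro ⟨x, hx, rfl⟩; exact hx
      · intro hy
        obtain ⟨x, rfl⟩ := Ideal.Quotient.mk_surjective y
        exact ⟨x, hy, rfl⟩
    haveI : IsLocalization n.primeCompl (L ⧸ I.map g) := hmap ▸ inferInstance
    have hI : I.map g = Ideal.span {g f} := by rw [Ideal.map_span, Set.image_singleton]
    exact ⟨(IsLocalization.algEquiv n.primeCompl (Localization.AtPrime n) (L ⧸ I.map g)).toRingEquiv.trans
      (Ideal.quotEquivOfEq hI)⟩

section AtPrime

variable {S : Type u} [CommRing S] [IsNoetherianRing S] {f : S} (hf : f ∈ nonZeroDivisors S)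
include hf

theorem mem_comap (n : Ideal (S ⧸ Ideal.span {f})) : f ∈ n.comap (Ideal.Quotient.mk (Ideal.span {f})) := by
  rw [Ideal.mem_comap, Ideal.Quotient.eq_zero_iff_mem.2 (Ideal.mem_span_singleton_self f)]
  exact n.zero_mem

theorem cmRing_quot [LocCoh.IsCohenMacaulayRing S] : LocCoh.IsCohenMacaulayRing (S ⧸ Ideal.span {f}) := by
  refine { isCohenMacaulayLocalRing_localization := fun n _ => ?_ }
  let p := n.comap (Ideal.Quotient.mk (Ideal.span {f}))
  obtain ⟨hreg, ⟨e⟩⟩ := exists_quot_equiv hf n (Localization.AtPrime p)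
  haveI := e.isLocalRing
  haveI := LocCoh.IsCohenMacaulayRing.isCohenMacaulayLocalRing_localization (R := S) p
  haveI := isCMLocal_quot ((IsLocalization.AtPrime.to_map_mem_maximal_iff (Localization.AtPrime p) p f).2
    (mem_comap hf n)) hreg
  exact LC.Liaison.isCMLocal_of_ringEquiv e.symm

theorem gorensteinRing_quot [LocCoh.IsGorensteinRing S] : LocCoh.IsGorensteinRing (S ⧸ Ideal.span {f}) := by
  refine LC.gorensteinRing_of_atPrime fun n _ => ?_
  let p := n.comap (Ideal.Quotient.mk (Ideal.span {f}))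
  obtain ⟨hreg, ⟨e⟩⟩ := exists_quot_equiv hf n (Localization.AtPrime p)
  haveI := e.isLocalRing
  haveI : IsNoetherianRing (Localization.AtPrime p) := IsLocalization.isNoetherianRing p.primeCompl _ inferInstance
  haveI := LocCoh.IsGorensteinRing.isGorensteinLocalRing_localization (A := S) p
  have hmem : algebraMap S (Localization.AtPrime p) f ∈ maximalIdeal (Localization.AtPrime p) :=
    (IsLocalization.AtPrime.to_map_mem_maximal_iff (Localization.AtPrime p) p f).2 (mem_comap hf n)
  let x := algebraMap S (Localization.AtPrime p) f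
  have hG := LC.gorenstein_quotient_ofList [x] (fun r hr => by rw [List.mem_singleton.1 hr]; exact hmem)
    ((RingTheory.Sequence.isWeaklyRegular_singleton_iff _ _).2 hreg)
  let e' : (Localization.AtPrime p ⧸ Ideal.ofList [x]) ≃+* Localization.AtPrime n :=
    (Ideal.quotEquivOfEq (Ideal.ofList_singleton x)).trans e.symm
  haveI := e'.symm.isLocalRing
  exact LC.gorenstein_of_ringEquiv e'

theorem gorenstein_atPrime_of_quot (n : Ideal (S ⧸ Ideal.span {f})) [n.IsPrime]
    [LocCoh.IsGorensteinLocalRing (Localization.AtPrime n)] :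
    LocCoh.IsGorensteinLocalRing (Localization.AtPrime (n.comap (Ideal.Quotient.mk (Ideal.span {f})))) := by
  let p := n.comap (Ideal.Quotient.mk (Ideal.span {f}))
  obtain ⟨hreg, ⟨e⟩⟩ := exists_quot_equiv hf n (Localization.AtPrime p)
  haveI := e.isLocalRing
  haveI : IsNoetherianRing (Localization.AtPrime p) := IsLocalization.isNoetherianRing p.primeCompl _ inferInstance
  haveI := LC.gorenstein_of_ringEquiv e
  exact LC.gorenstein_of_quotient ((IsLocalization.AtPrime.to_map_mem_maximal_iff (Localization.AtPrime p) p f).2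
    (mem_comap hf n)) hreg

theorem cmLocal_of_cmRing_quot (h : LocCoh.IsCohenMacaulayRing (S ⧸ Ideal.span {f}))
    {p : Ideal S} [p.IsPrime] (n : Ideal (S ⧸ Ideal.span {f})) [n.IsPrime]
    (hnp : n.comap (Ideal.Quotient.mk (Ideal.span {f})) = p) :
    LocCoh.IsCohenMacaulayLocalRing (Localization.AtPrime p) := by
  subst hnp
  haveI : LocCoh.IsCohenMacaulayLocalRing (Localization.AtPrime n) :=
    h.isCohenMacaulayLocalRing_localization n
  exact CMPointLib.isCMLocal_atPrime_of_quot hf n

theorem gorLocal_of_gorRing_quot (h : LocCoh.IsGorensteinRing (S ⧸ Ideal.span {f}))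
    {p : Ideal S} [p.IsPrime] (n : Ideal (S ⧸ Ideal.span {f})) [n.IsPrime]
    (hnp : n.comap (Ideal.Quotient.mk (Ideal.span {f})) = p) :
    LocCoh.IsGorensteinLocalRing (Localization.AtPrime p) := by
  subst hnp
  haveI : LocCoh.IsGorensteinLocalRing (Localization.AtPrime n) := h.isGorensteinLocalRing_localization n
  exact gorenstein_atPrime_of_quot hf n

end AtPrime

theorem cmLocal_congr {R : Type u} [CommRing R] {p q : Ideal R} [p.IsPrime] [q.IsPrime] (h : p = q)
    (hG : LocCoh.IsCohenMacaulayLocalRing (Localization.AtPrime p)) :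
    LocCoh.IsCohenMacaulayLocalRing (Localization.AtPrime q) := by
  subst h
  exact hG

theorem gorLocal_congr {R : Type u} [CommRing R] {p q : Ideal R} [p.IsPrime] [q.IsPrime] (h : p = q)
    (hG : LocCoh.IsGorensteinLocalRing (Localization.AtPrime p)) :
    LocCoh.IsGorensteinLocalRing (Localization.AtPrime q) := by
  subst h
  exact hG

/-- Cohen–Macaulay at the *maximal ideal is Cohen–Macaulay. -/
theorem cmRing_of_atStarMax {R : Type u} [CommRing R] [IsNoetherianRing R] {𝒜 : ℤ → AddSubgroup R}
    [GradedRing 𝒜] {m : HomogeneousIdeal 𝒜} (hm : GrLC.IsStarLocal 𝒜 m) [m.toIdeal.IsPrime]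
    [h : LocCoh.IsCohenMacaulayLocalRing (Localization.AtPrime m.toIdeal)] : LocCoh.IsCohenMacaulayRing R := by
  refine (GrLib8.Seg.cmRing_iff R).2 fun q hq => Or.inr ?_
  have hcm : LocCoh.IsCohenMacaulayModule (Localization.AtPrime m.toIdeal) (LocalizedModule m.toIdeal.primeCompl R) := by
    unfold LocCoh.IsCohenMacaulayModule
    rw [Module.supportDim_eq_of_equiv (LC.selfLoc m.toIdeal.primeCompl), Hensel.depth_congr (LC.selfLoc m.toIdeal.primeCompl)]
    exact h.supportDim_eq_depth
  haveI hs : Nontrivial (LocalizedModule q.primeCompl R) := (LC.selfLoc q.primeCompl).toEquiv.nontrivial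
  haveI hP : (Ideal.homogeneousCore 𝒜 q).toIdeal.IsPrime := hq.homogeneousCore
  haveI := GrLib8.GrCM.nontrivial_core 𝒜 𝒜 q hs
  have hPm : (Ideal.homogeneousCore 𝒜 q).toIdeal ≤ m.toIdeal :=
    GrLib8.StarGor.le_star hm fun h => hP.ne_top (by rw [h]; exact HomogeneousIdeal.toIdeal_top)
  obtain ⟨d, hd⟩ := ENat.ne_top_iff_exists.1 (Ideal.height_ne_top
    (I := q.map (Ideal.Quotient.mk (Ideal.homogeneousCore 𝒜 q).toIdeal)) (by
    haveI : (q.map (Ideal.Quotient.mk (Ideal.homogeneousCore 𝒜 q).toIdeal)).IsPrime :=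
      Ideal.map_isPrime_of_surjective Ideal.Quotient.mk_surjective
        (by rw [Ideal.mk_ker]; exact Ideal.toIdeal_homogeneousCore_le 𝒜 q)
    exact Ideal.IsPrime.ne_top inferInstance))
  have hdq := S13232.result R 𝒜 R 𝒜 q d hd.symm hs
  have hpq := S13234.result R 𝒜 R 𝒜 q d hd.symm
  unfold LocCoh.IsCohenMacaulayModule
  rw [hdq, hpq, WithBot.coe_add]
  congr 1
  exact GrLib8.GrCM.isCM_of_le (Ideal.homogeneousCore 𝒜 q).toIdeal m.toIdeal hPm hcm

end Groth.Agent.FiltExt
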