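import Groth.Agent.FiltExt.Main
import Mathlib.RingTheory.UniqueFactorizationDomain.Kaplansky
import Mathlib.RingTheory.UniqueFactorizationDomain.Multiplicity
import Mathlib.RingTheory.Polynomial.UniqueFactorization
import Mathlib.Algebra.Polynomial.Degree.TrailingDegree

/-! Factoriality of the extended Rees algebra (Nagata's criterion for `u = T⁻¹`). -/

set_option autoImplicit false
set_option linter.unusedSectionVars false

universe u

open LaurentPolynomial

namespace Groth.Agent.FiltExt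

variable {A : Type u} [CommRing A]

theorem coeff_C_mul (a : A) (x : A[T;T⁻¹]) (j : ℤ) : (C a * x).coeff j = a * x.coeff j := by
  classical
  induction x using LaurentPolynomial.induction_on' with
  | add p q hp hq => simp [mul_add, hp, hq]
  | C_mul_T n b =>
    rw [← mul_assoc, ← map_mul, coeff_CT, coeff_CT]
    split_ifs <;> simp

theorem monomial_of_mul [IsDomain A] {p q : Polynomial A} {a : A} {k : ℕ} (ha : a ≠ 0)
    (h : p * q = Polynomial.C a * Polynomial.X ^ k) :
    ∃ (c : A) (d : ℕ), p = Polynomial.C c * Polynomial.X ^ d := by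
  have hne : p * q ≠ 0 := by rw [h, Polynomial.C_mul_X_pow_eq_monomial]; simpa using ha
  have hp : p ≠ 0 := left_ne_zero_of_mul hne
  have hq : q ≠ 0 := right_ne_zero_of_mul hne
  have h1 : p.natDegree + q.natDegree = k := by
    rw [← Polynomial.natDegree_mul hp hq, h, Polynomial.natDegree_C_mul_X_pow k a ha]
  have h2 : p.natTrailingDegree + q.natTrailingDegree = k := by
    rw [← Polynomial.natTrailingDegree_mul hp hq, h, Polynomial.C_mul_X_pow_eq_monomial,
      Polynomial.natTrailingDegree_monomial ha]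
  have h3 := Polynomial.natTrailingDegree_le_natDegree p
  have h4 := Polynomial.natTrailingDegree_le_natDegree q
  refine ⟨p.coeff p.natDegree, p.natDegree, Polynomial.ext fun j => ?_⟩
  rw [Polynomial.coeff_C_mul_X_pow]
  split_ifs with hj
  · rw [hj]
  · rcases lt_or_gt_of_ne hj with h' | h'
    · exact Polynomial.coeff_eq_zero_of_lt_natTrailingDegree (by omega)
    · exact Polynomial.coeff_eq_zero_of_natDegree_lt h'

theorem laurent_monomial_of_mul [IsDomain A] {x y : A[T;T⁻¹]} {a : A} {k : ℤ} (ha : a ≠ 0)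
    (h : x * y = C a * T k) : ∃ (c : A) (d : ℤ), x = C c * T d := by
  obtain ⟨m, x', hx⟩ := exists_T_pow x
  obtain ⟨l, y', hy⟩ := exists_T_pow y
  obtain ⟨r, hr⟩ : ∃ r : ℕ, 0 ≤ k + m + l + (r : ℤ) := ⟨(k + m + l).natAbs, by omega⟩
  have h1 : x' * (y' * Polynomial.X ^ r) = Polynomial.C a * Polynomial.X ^ (k + m + l + r).toNat := by
    refine Polynomial.toLaurent_injective ?_
    rw [map_mul, map_mul, map_mul, hx, hy, Polynomial.toLaurent_C, Polynomial.toLaurent_X_pow,
      Polynomial.toLaurent_X_pow, Int.toNat_of_nonneg hr,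
      show x * T (m : ℤ) * (y * T (l : ℤ) * T (r : ℤ)) = x * y * (T (m : ℤ) * T (l : ℤ) * T (r : ℤ)) by ring, h,
      ← T_add, ← T_add, mul_assoc, ← T_add]
    congr 2
    ring
  obtain ⟨c, d, hd⟩ := monomial_of_mul ha h1
  refine ⟨c, (d : ℤ) - m, ?_⟩
  rw [hd, map_mul, Polynomial.toLaurent_C, Polynomial.toLaurent_X_pow] at hx
  rw [sub_eq_add_neg, T_add, ← mul_assoc, hx, mul_assoc, ← T_add, add_neg_cancel, T_zero, mul_one]

/-- A prime polynomial stays prime among Laurent polynomials. -/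
theorem prime_toLaurent [IsDomain A] {π : Polynomial A} (hπ : Prime π) (hnu : ¬ IsUnit (Polynomial.toLaurent π))
    {x y : A[T;T⁻¹]} (h : Polynomial.toLaurent π ∣ x * y) :
    Polynomial.toLaurent π ∣ x ∨ Polynomial.toLaurent π ∣ y := by
  obtain ⟨m, x', hx⟩ := exists_T_pow x
  obtain ⟨l, y', hy⟩ := exists_T_pow y
  obtain ⟨z, hz⟩ := h
  obtain ⟨r, z', hz'⟩ := exists_T_pow z
  have h1 : x' * y' * Polynomial.X ^ r = π * (z' * Polynomial.X ^ (m + l)) := by
    refine Polynomial.toLaurent_injective ?_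
    rw [map_mul, map_mul, map_mul, map_mul, hx, hy, hz', Polynomial.toLaurent_X_pow, Polynomial.toLaurent_X_pow,
      show x * T (m : ℤ) * (y * T (l : ℤ)) * T (r : ℤ) = x * y * (T (m : ℤ) * T (l : ℤ) * T (r : ℤ)) by ring, hz,
      Nat.cast_add, T_add]
    ring
  have back : ∀ (w : A[T;T⁻¹]) (e : ℕ) (w' : Polynomial A), Polynomial.toLaurent w' = w * T (e : ℤ) → π ∣ w' →
      Polynomial.toLaurent π ∣ w := fun w e w' hw hd => by
    have := map_dvd Polynomial.toLaurent hd
    rw [hw] at this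
    exact (isUnit_T (e : ℤ)).dvd_mul_right.1 this
  rcases hπ.dvd_or_dvd ⟨_, h1⟩ with h | h
  · rcases hπ.dvd_or_dvd h with h | h
    · exact Or.inl (back x m x' hx h)
    · exact Or.inr (back y l y' hy h)
  · refine absurd ?_ hnu
    exact isUnit_of_dvd_unit (map_dvd Polynomial.toLaurent h)
      (by rw [Polynomial.toLaurent_X_pow]; exact isUnit_T _)

variable (𝓕 : FiltBl.IdealFiltration A)

theorem exists_T_neg_mem (x : A[T;T⁻¹]) : ∃ N : ℕ, x * T (-(N : ℤ)) ∈ 𝓕.extRees := by
  induction x using LaurentPolynomial.induction_on' with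
  | add p q hp hq =>
    obtain ⟨M, hM⟩ := hp
    obtain ⟨N, hN⟩ := hq
    refine ⟨M + N, ?_⟩
    have hpow : ∀ e : ℕ, T (-(e : ℤ)) ∈ 𝓕.extRees := fun e => by
      have := pow_mem 𝓕.u.2 e
      change (T (-1) : A[T;T⁻¹]) ^ e ∈ _ at this
      rwa [T_pow, mul_neg_one] at this
    rw [add_mul, Nat.cast_add, neg_add, T_add]
    refine add_mem ?_ ?_
    · rw [← mul_assoc]; exact mul_mem hM (hpow N)
    · rw [mul_comm (T (-(M : ℤ))), ← mul_assoc]; exact mul_mem hN (hpow M)
  | C_mul_T n b =>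
    refine ⟨n.natAbs, ?_⟩
    rw [mul_assoc, ← T_add]
    exact (elt 𝓕 (n + -(n.natAbs : ℤ)) b (by rw [Int.toNat_of_nonpos (by omega), 𝓕.zero_eq]; trivial)).2

theorem coe_u_pow (N : ℕ) : ((𝓕.u ^ N : 𝓕.extRees) : A[T;T⁻¹]) = T (-(N : ℤ)) := by
  show (T (-1) : A[T;T⁻¹]) ^ N = _
  rw [T_pow, mul_neg_one]

variable [IsLocalRing A] (hsep : ⨅ n, 𝓕.F n = ⊥)
include hsep

theorem not_isUnit_u : ¬ IsUnit 𝓕.u := fun h =>
  (isMaximal_ker 𝓕 hsep).ne_top (Ideal.eq_top_of_isUnit_mem _ (u_mem_mstar 𝓕 hsep) h)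

variable [IsNoetherianRing A] (hfg : Algebra.FiniteType A 𝓕.rees) [IsDomain A] [IsDomain 𝓕.extRees]
include hfg

theorem prime_u_of_ufd [UniqueFactorizationMonoid 𝓕.extRees] : Prime 𝓕.u := by
  refine UniqueFactorizationMonoid.irreducible_iff_prime.1 ⟨not_isUnit_u 𝓕 hsep, fun x y hxy => ?_⟩
  have hval : x.1 * y.1 = C (1 : A) * T (-1) := by
    rw [map_one, one_mul]
    exact (congrArg Subtype.val hxy).symm
  obtain ⟨c, i, hx⟩ := laurent_monomial_of_mul one_ne_zero hval
  obtain ⟨d, j, hy⟩ := laurent_monomial_of_mul one_ne_zero ((mul_comm _ _).trans hval)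
  rw [hx, hy, show C c * T i * (C d * T j) = C (c * d) * T (i + j) by rw [map_mul, T_add]; ring] at hval
  have hij : i + j = -1 := by
    by_contra h
    have := congrArg (fun z : A[T;T⁻¹] => z.coeff (-1)) hval
    simp only [coeff_CT, h, if_false, if_true] at this
    exact zero_ne_one this
  have hcd : c * d = 1 := by
    have := congrArg (fun z : A[T;T⁻¹] => z.coeff (-1)) hval
    simp only [coeff_CT, hij, if_true] at this
    exact this
  have hc : c ∈ 𝓕.F i.toNat := by
    have := x.2 i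
    rwa [hx, coeff_CT, if_pos rfl] at this
  have hd : d ∈ 𝓕.F j.toNat := by
    have := y.2 j
    rwa [hy, coeff_CT, if_pos rfl] at this
  have hle : ∀ (z : A) (l : ℤ), IsUnit z → z ∈ 𝓕.F l.toNat → l ≤ 0 := fun z l hz hzl => by
    by_contra hl
    exact (IsLocalRing.mem_maximalIdeal _).1 (F_le_max 𝓕 hsep (n := l.toNat) (by omega) hzl) hz
  have hi := hle c i (IsUnit.of_mul_eq_one _ hcd) hc
  have hj := hle d j (IsUnit.of_mul_eq_one _ ((mul_comm _ _).trans hcd)) hd
  rcases eq_or_ne i 0 with h0 | h0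
  · refine Or.inl (IsUnit.of_mul_eq_one (elt 𝓕 0 d (by simp [𝓕.zero_eq])) (Subtype.ext ?_))
    show x.1 * (C d * T 0) = 1
    rw [hx, h0, T_zero, mul_one, mul_one, ← map_mul, hcd, map_one]
  · refine Or.inr (IsUnit.of_mul_eq_one (elt 𝓕 0 c (by simp [𝓕.zero_eq])) (Subtype.ext ?_))
    show y.1 * (C c * T 0) = 1
    rw [hy, show j = 0 by omega, T_zero, mul_one, mul_one, ← map_mul, mul_comm, hcd, map_one]

theorem isDomain_gr_of_ufd [UniqueFactorizationMonoid 𝓕.extRees] : IsDomain 𝓕.Gr := by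
  have hp := prime_u_of_ufd 𝓕 hsep hfg
  haveI := (Ideal.span_singleton_prime hp.ne_zero).2 hp
  infer_instance

theorem ufd_base_of_ufd [UniqueFactorizationMonoid 𝓕.extRees] : UniqueFactorizationMonoid A := by
  refine UniqueFactorizationMonoid.iff_exists_prime_mem_of_isPrime.2 fun P hP0 hP => ?_
  obtain ⟨a, haP, ha0⟩ := Submodule.exists_mem_ne_zero_of_ne_bot hP0
  -- a prime factor of `a` all of whose coefficients lie in `P`
  let ρ : A[T;T⁻¹] →+* (A ⧸ P)[T;T⁻¹] := AddMonoidAlgebra.mapRingHom ℤ (Ideal.Quotient.mk P)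
  let Q : Ideal 𝓕.extRees := RingHom.ker (ρ.comp 𝓕.extRees.val.toRingHom)
  haveI : Q.IsPrime := RingHom.ker_isPrime _
  have hcoef : ∀ f : 𝓕.extRees, f ∈ Q → ∀ j, f.1.coeff j ∈ P := fun f hf j => by
    have h0 := RingHom.mem_ker.1 hf
    have := congrArg (fun z : (A ⧸ P)[T;T⁻¹] => z.coeff j) h0
    simpa [ρ, Ideal.Quotient.eq_zero_iff_mem] using this
  have haQ : algebraMap A 𝓕.extRees a ∈ Q := by
    refine RingHom.mem_ker.2 ?_
    show ρ (algebraMap A A[T;T⁻¹] a) = 0
    refine AddMonoidAlgebra.ext (Finsupp.ext fun j => ?_)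
    simp [ρ, LaurentPolynomial.C_apply, Ideal.Quotient.eq_zero_iff_mem.2 haP, apply_ite]
  have hane : algebraMap A 𝓕.extRees a ≠ 0 := fun h => ha0 (by
    have := congrArg (fun z : 𝓕.extRees => z.1.coeff 0) h
    simpa [LaurentPolynomial.C_apply] using this)
  have hnu : ¬ IsUnit (algebraMap A 𝓕.extRees a) := fun h =>
    (inferInstance : Q.IsPrime).ne_top (Ideal.eq_top_of_isUnit_mem _ haQ h)
  obtain ⟨s, hs, hass⟩ := UniqueFactorizationMonoid.exists_prime_factors _ hane
  obtain ⟨q, hqs, hqQ⟩ := (inferInstance : Q.IsPrime).multiset_prod_mem_iff_exists_mem s |>.1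
    (Ideal.mem_of_dvd _ hass.dvd' haQ)
  have hq := hs q hqs
  obtain ⟨r, hr⟩ := (Multiset.dvd_prod hqs).trans hass.dvd
  have hval : q.1 * r.1 = C a * T 0 := by
    rw [T_zero, mul_one]
    exact (congrArg Subtype.val hr).symm
  obtain ⟨c, i, hqc⟩ := laurent_monomial_of_mul ha0 hval
  have hcP : c ∈ P := by
    have := hcoef q hqQ i
    rwa [hqc, coeff_CT, if_pos rfl] at this
  have hc0 : c ≠ 0 := fun h => hq.ne_zero (Subtype.ext (by rw [hqc, h, map_zero, zero_mul]; rfl))
  refine ⟨c, hcP, hc0, fun h => hP.ne_top (Ideal.eq_top_of_isUnit_mem _ hcP h), fun x y ⟨z, hxy⟩ => ?_⟩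
  obtain ⟨N, hN⟩ := exists_T_neg_mem 𝓕 (C z * T (-i))
  have hdiv : q ∣ 𝓕.u ^ N * (algebraMap A 𝓕.extRees x * algebraMap A 𝓕.extRees y) := by
    refine ⟨⟨_, hN⟩, Subtype.ext ?_⟩
    show ((𝓕.u ^ N : 𝓕.extRees) : A[T;T⁻¹]) * (C x * C y) = q.1 * (C z * T (-i) * T (-(N : ℤ)))
    rw [coe_u_pow, hqc, ← map_mul, hxy, map_mul,
      show C c * T i * (C z * T (-i) * T (-(N : ℤ))) = T (-(N : ℤ)) * (C c * C z) * (T i * T (-i)) by ring,
      ← T_add, add_neg_cancel, T_zero, mul_one]
  rcases hq.dvd_or_dvd hdiv with h | h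
  · exfalso
    have h1 : 𝓕.u ∈ Q :=
      (inferInstance : Q.IsPrime).mem_of_pow_mem N (Ideal.mem_of_dvd _ h hqQ)
    have := hcoef _ h1 (-1)
    change (T (-1) : A[T;T⁻¹]).coeff (-1) ∈ P at this
    rw [T_apply, if_pos rfl] at this
    exact hP.ne_top ((Ideal.eq_top_iff_one _).2 this)
  · have back : ∀ w : A, q ∣ algebraMap A 𝓕.extRees w → c ∣ w := fun w ⟨v, hv⟩ => by
      have h0 := congrArg (fun z : 𝓕.extRees => z.1.coeff 0) hv
      simp only [Subalgebra.coe_mul, hqc] at h0
      refine ⟨(T i * v.1 : A[T;T⁻¹]).coeff 0, ?_⟩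
      rw [mul_assoc, coeff_C_mul] at h0
      rw [← h0]
      simp [LaurentPolynomial.C_apply]
    rcases hq.dvd_or_dvd h with h | h
    · exact Or.inl (back x h)
    · exact Or.inr (back y h)

theorem ufd_of_base [UniqueFactorizationMonoid A] (hG : IsDomain 𝓕.Gr) :
    UniqueFactorizationMonoid 𝓕.extRees := by
  haveI := isNoetherian_extRees 𝓕 hfg
  have hune : 𝓕.u ≠ 0 := fun h => (isUnit_T (R := A) (-1)).ne_zero (congrArg Subtype.val h)
  have hu : Prime 𝓕.u := (Ideal.span_singleton_prime hune).1 ((Ideal.Quotient.isDomain_iff_prime _).1 hG)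
  refine UniqueFactorizationMonoid.iff_exists_prime_mem_of_isPrime.2 fun Q hQ0 hQ => ?_
  suffices hs : ∀ p : Polynomial A, ∀ g ∈ Q, g ≠ 0 → ∀ i : ℤ, g.1 = Polynomial.toLaurent p * T i → ∃ x ∈ Q, Prime x by
    obtain ⟨g, hg, hg0⟩ := Submodule.exists_mem_ne_zero_of_ne_bot hQ0
    obtain ⟨m, p, hp⟩ := exists_T_pow g.1
    exact hs p g hg hg0 (-(m : ℤ)) (by rw [hp, mul_assoc, ← T_add, add_neg_cancel, T_zero, mul_one])
  intro p
  induction p using UniqueFactorizationMonoid.induction_on_prime with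
  | h₁ => intro g _ hg0 i hgi; exact absurd (Subtype.ext (by rw [hgi, map_zero, zero_mul]; rfl)) hg0
  | h₂ v hv =>
    intro g hg _ i hgi
    obtain ⟨c, hc, rfl⟩ := Polynomial.isUnit_iff.1 hv
    obtain ⟨c', hc'⟩ := hc.exists_right_inv
    rw [Polynomial.toLaurent_C] at hgi
    by_cases hi : i < 0
    · refine ⟨𝓕.u, hQ.mem_of_pow_mem i.natAbs ?_, hu⟩
      have : algebraMap A 𝓕.extRees c' * g = 𝓕.u ^ i.natAbs := Subtype.ext (by
        rw [coe_u_pow, Subalgebra.coe_mul, hgi]
        show C c' * (C c * T i) = _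
        rw [← mul_assoc, ← map_mul, mul_comm c', hc', map_one, one_mul]
        congr 1
        omega)
      exact this ▸ Ideal.mul_mem_left _ _ hg
    · exfalso
      refine hQ.ne_top ((Ideal.eq_top_iff_one _).2 ?_)
      have : algebraMap A 𝓕.extRees c' * 𝓕.u ^ i.natAbs * g = 1 := Subtype.ext (by
        rw [Subalgebra.coe_mul, Subalgebra.coe_mul, coe_u_pow, hgi, Subalgebra.coe_one]
        show C c' * T _ * (C c * T i) = 1
        rw [show C c' * T (-(i.natAbs : ℤ)) * (C c * T i) = C (c * c') * (T (-(i.natAbs : ℤ)) * T i) by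
          rw [map_mul]; ring, hc', map_one, one_mul, ← T_add, show -(i.natAbs : ℤ) + i = 0 by omega, T_zero])
      exact this ▸ Ideal.mul_mem_left _ _ hg
  | h₃ a π ha hπ ih =>
    intro g hg hg0 i hgi
    rw [map_mul] at hgi
    by_cases hπu : IsUnit (Polynomial.toLaurent π)
    · obtain ⟨w, hw⟩ := hπu.exists_left_inv
      obtain ⟨v, m, hvm⟩ := laurent_monomial_of_mul (a := (1 : A)) (k := 0) one_ne_zero
        (show Polynomial.toLaurent π * w = C (1 : A) * T 0 by rw [mul_comm, hw, map_one, T_zero, mul_one])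
      obtain ⟨v', m', hvm'⟩ := laurent_monomial_of_mul (a := (1 : A)) (k := 0) one_ne_zero
        (show w * Polynomial.toLaurent π = C (1 : A) * T 0 by rw [hw, map_one, T_zero, mul_one])
      have hvv : v' * v = 1 ∧ m' + m = 0 := by
        rw [hvm, hvm', show C v' * T m' * (C v * T m) = C (v' * v) * T (m' + m) by rw [map_mul, T_add]; ring] at hw
        have h0 : m' + m = 0 := by
          by_contra h
          have := congrArg (fun z : A[T;T⁻¹] => z.coeff 0) hw
          simp only [coeff_CT, h, if_false] at this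
          rw [← T_zero, T_apply, if_pos rfl] at this
          exact zero_ne_one this
        refine ⟨?_, h0⟩
        have := congrArg (fun z : A[T;T⁻¹] => z.coeff 0) hw
        simp only [coeff_CT, h0, if_true] at this
        rwa [← T_zero, T_apply, if_pos rfl] at this
      refine ih (algebraMap A 𝓕.extRees v' * g) (Ideal.mul_mem_left _ _ hg) (mul_ne_zero (fun h => ?_) hg0) (i + m) ?_
      · have hv0 := congrArg (fun z : 𝓕.extRees => z.1.coeff 0) h
        simp [LaurentPolynomial.C_apply] at hv0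
        rw [hv0, zero_mul] at hvv
        exact zero_ne_one hvv.1
      · rw [Subalgebra.coe_mul, hgi, hvm]
        show C v' * (C v * T m * Polynomial.toLaurent a * T i) = _
        rw [show C v' * (C v * T m * Polynomial.toLaurent a * T i) =
          C (v' * v) * (Polynomial.toLaurent a * (T i * T m)) by rw [map_mul]; ring, hvv.1, map_one, one_mul, ← T_add]
    · obtain ⟨M, hM⟩ := exists_T_neg_mem 𝓕 (Polynomial.toLaurent π)
      have hne : (⟨_, hM⟩ : 𝓕.extRees) ≠ 0 := fun h =>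
        mul_ne_zero (Polynomial.toLaurent_ne_zero.2 hπ.ne_zero) (isUnit_T _).ne_zero (congrArg Subtype.val h)
      obtain ⟨e, f, hnd, hf⟩ := WfDvdMonoid.max_power_factor' hne (not_isUnit_u 𝓕 hsep)
      have hfval : f.1 = Polynomial.toLaurent π * T ((e : ℤ) - M) := by
        have h1 := congrArg Subtype.val hf
        rw [Subalgebra.coe_mul, coe_u_pow] at h1
        change Polynomial.toLaurent π * T (-(M : ℤ)) = _ at h1
        rw [sub_eq_add_neg, T_add, mul_left_comm, h1, ← mul_assoc, ← T_add, add_neg_cancel, T_zero, one_mul]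
      have hfne : f ≠ 0 := fun h => hnd (h ▸ dvd_zero _)
      have hfp : Prime f := by
        refine ⟨hfne, fun h => hπu ?_, fun x y ⟨z, hxy⟩ => ?_⟩
        · have h1 := h.map 𝓕.extRees.val
          change IsUnit f.1 at h1
          rw [hfval] at h1
          exact isUnit_of_mul_isUnit_left h1
        · have h1 : Polynomial.toLaurent π ∣ x.1 * y.1 := ⟨T ((e : ℤ) - M) * z.1, by
            rw [← mul_assoc, ← hfval]
            exact congrArg Subtype.val hxy⟩
          have back : ∀ w : 𝓕.extRees, Polynomial.toLaurent π ∣ w.1 → f ∣ w := fun w ⟨t, ht⟩ => by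
            obtain ⟨N, hN⟩ := exists_T_neg_mem 𝓕 (t * T ((M : ℤ) - e))
            have h2 : f * ⟨_, hN⟩ = 𝓕.u ^ N * w := Subtype.ext (by
              rw [Subalgebra.coe_mul, Subalgebra.coe_mul, coe_u_pow, hfval, ht,
                show Polynomial.toLaurent π * T ((e : ℤ) - M) * (t * T ((M : ℤ) - e) * T (-(N : ℤ))) =
                  T (-(N : ℤ)) * (Polynomial.toLaurent π * t) * (T ((e : ℤ) - M) * T ((M : ℤ) - e)) by ring,
                ← T_add, sub_add_sub_cancel, sub_self, T_zero, mul_one])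
            obtain ⟨t', ht'⟩ := hu.pow_dvd_of_dvd_mul_left N hnd ⟨w, h2⟩
            exact ⟨t', mul_left_cancel₀ (pow_ne_zero N hune) (by rw [← h2, ht']; ring)⟩
          rcases prime_toLaurent hπ hπu h1 with h | h
          · exact Or.inl (back x h)
          · exact Or.inr (back y h)
      obtain ⟨N, hN⟩ := exists_T_neg_mem 𝓕 (Polynomial.toLaurent a * T (i + M - e))
      have hprod : f * ⟨_, hN⟩ = 𝓕.u ^ N * g := Subtype.ext (by
        rw [Subalgebra.coe_mul, Subalgebra.coe_mul, coe_u_pow, hfval, hgi,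
          show Polynomial.toLaurent π * T ((e : ℤ) - M) * (Polynomial.toLaurent a * T (i + M - e) * T (-(N : ℤ))) =
            T (-(N : ℤ)) * (Polynomial.toLaurent π * Polynomial.toLaurent a * (T ((e : ℤ) - M) * T (i + M - e))) by ring,
          ← T_add, show (e : ℤ) - M + (i + M - e) = i by ring])
      rcases hQ.mem_or_mem (show f * (⟨_, hN⟩ : 𝓕.extRees) ∈ Q from hprod ▸ Ideal.mul_mem_left _ _ hg) with h | h
      · exact ⟨f, h, hfp⟩
      · refine ih ⟨_, hN⟩ h ?_ (i + M - e - N) ?_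
        · intro h0
          rw [h0, mul_zero] at hprod
          exact mul_ne_zero (pow_ne_zero N hune) hg0 hprod.symm
        · show Polynomial.toLaurent a * T (i + M - e) * T (-(N : ℤ)) = _
          rw [mul_assoc, ← T_add, ← sub_eq_add_neg]

theorem ufd_iff :
    UniqueFactorizationMonoid 𝓕.extRees ↔ (UniqueFactorizationMonoid A ∧ IsDomain 𝓕.Gr) :=
  ⟨fun _ => ⟨ufd_base_of_ufd 𝓕 hsep hfg, isDomain_gr_of_ufd 𝓕 hsep hfg⟩,
    fun ⟨_, hG⟩ => ufd_of_base 𝓕 hsep hfg hG⟩

end Groth.Agent.FiltExt
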