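import Groth.Agent.FiltExt.Main
import Groth.Agent.FiltExt.Ufd
import Groth.Agent.FlatLoc6.RegCM
import Groth.Agent.FlatLoc6.TensorField
import Groth.Agent.FlatLoc6.FiberRing
import Mathlib.RingTheory.PolynomialAlgebra

/-! Cohen–Macaulayness of the extended Rees algebra away from the ideal of positive degree elements. -/

set_option autoImplicit false
set_option linter.style.haveILetI false

universe u

open LaurentPolynomial

namespace Groth.Agent.FiltExt

/-- Cohen–Macaulayness of a local ring of a localisation. -/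
theorem cmLocal_localization_iff {R S : Type u} [CommRing R] [IsNoetherianRing R] [CommRing S] [Algebra R S]
    (M : Submonoid R) [IsLocalization M S] (Q : Ideal S) [Q.IsPrime] (P : Ideal R) [P.IsPrime]
    (hP : Q.comap (algebraMap R S) = P) :
    LocCoh.IsCohenMacaulayLocalRing (Localization.AtPrime Q) ↔
      LocCoh.IsCohenMacaulayLocalRing (Localization.AtPrime P) := by
  subst hP
  haveI := IsLocalization.isLocalization_isLocalization_atPrime_isLocalization M (Localization.AtPrime Q) Q
  let e := (IsLocalization.algEquiv (Q.comap (algebraMap R S)).primeCompl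
    (Localization.AtPrime (Q.comap (algebraMap R S))) (Localization.AtPrime Q)).toRingEquiv
  haveI : IsNoetherianRing S := IsLocalization.isNoetherianRing M S inferInstance
  haveI : IsNoetherianRing (Localization.AtPrime Q) := IsLocalization.isNoetherianRing Q.primeCompl _ inferInstance
  haveI : IsNoetherianRing (Localization.AtPrime (Q.comap (algebraMap R S))) :=
    IsLocalization.isNoetherianRing (Q.comap (algebraMap R S)).primeCompl _ inferInstance
  exact ⟨fun h => LC.Liaison.isCMLocal_of_ringEquiv e.symm, fun h => LC.Liaison.isCMLocal_of_ringEquiv e⟩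

/-- Cutting by a regular element at a point. -/
theorem cmLocal_quot_point {S : Type u} [CommRing S] [IsNoetherianRing S] {f : S} (hf : f ∈ nonZeroDivisors S)
    (n : Ideal (S ⧸ Ideal.span {f})) [n.IsPrime]
    [LocCoh.IsCohenMacaulayLocalRing (Localization.AtPrime (n.comap (Ideal.Quotient.mk (Ideal.span {f}))))] :
    LocCoh.IsCohenMacaulayLocalRing (Localization.AtPrime n) := by
  let p := n.comap (Ideal.Quotient.mk (Ideal.span {f}))
  obtain ⟨hreg, ⟨e⟩⟩ := exists_quot_equiv hf n (Localization.AtPrime p)
  haveI := e.isLocalRing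
  haveI := isCMLocal_quot ((IsLocalization.AtPrime.to_map_mem_maximal_iff (Localization.AtPrime p) p f).2
    (mem_comap hf n)) hreg
  exact LC.Liaison.isCMLocal_of_ringEquiv e.symm

/-- Cohen–Macaulayness at a point is preserved by ring isomorphisms. -/
theorem cmLocal_equiv_point {R R' : Type u} [CommRing R] [IsNoetherianRing R] [CommRing R'] [IsNoetherianRing R']
    (e : R ≃+* R') (P : Ideal R) [P.IsPrime] (P' : Ideal R') [P'.IsPrime] (hP : P'.comap e.toRingHom = P)
    [LocCoh.IsCohenMacaulayLocalRing (Localization.AtPrime P)] :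
    LocCoh.IsCohenMacaulayLocalRing (Localization.AtPrime P') := by
  have hmap : P.primeCompl.map e.toMonoidHom = P'.primeCompl := by
    ext y
    constructor
    · rintro ⟨x, hx, rfl⟩
      exact fun hy => hx (hP ▸ hy)
    · intro hy
      refine ⟨e.symm y, fun hx => hy ?_, e.apply_symm_apply y⟩
      rw [← hP] at hx
      simpa using hx
  haveI : IsNoetherianRing (Localization.AtPrime P') := IsLocalization.isNoetherianRing P'.primeCompl _ inferInstance
  exact LC.Liaison.isCMLocal_of_ringEquiv
    (IsLocalization.ringEquivOfRingEquiv (Localization.AtPrime P) (Localization.AtPrime P') e hmap)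

/-- Cohen–Macaulayness at a point descends along ring isomorphisms. -/
theorem cmLocal_equiv_point_symm {R R' : Type u} [CommRing R] [IsNoetherianRing R] [CommRing R']
    [IsNoetherianRing R'] (e : R ≃+* R') (P : Ideal R) [P.IsPrime] (P' : Ideal R') [P'.IsPrime]
    (hP : P'.comap e.toRingHom = P) [h : LocCoh.IsCohenMacaulayLocalRing (Localization.AtPrime P')] :
    LocCoh.IsCohenMacaulayLocalRing (Localization.AtPrime P) :=
  cmLocal_equiv_point e.symm P' P (Ideal.ext fun x => by
    rw [← hP]
    show e (e.symm x) ∈ P' ↔ x ∈ P'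
    rw [e.apply_symm_apply])

/-- A polynomial ring over a Cohen–Macaulay local ring is Cohen–Macaulay at all primes over the closed point. -/
theorem cm_polynomial_point {R : Type u} [CommRing R] [IsNoetherianRing R] (q : Ideal (Polynomial R)) [q.IsPrime]
    [hR' : LocCoh.IsCohenMacaulayLocalRing (Localization.AtPrime (q.comap (Polynomial.C : R →+* Polynomial R)))] :
    LocCoh.IsCohenMacaulayLocalRing (Localization.AtPrime q) := by
  let B := Polynomial R
  haveI : IsNoetherianRing (Localization.AtPrime q) := IsLocalization.isNoetherianRing q.primeCompl _ inferInstance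
  refine { supportDim_eq_depth := ?_ }
  let p := q.comap (algebraMap R B)
  haveI : LocCoh.IsCohenMacaulayRing (p.Fiber B) :=
    FlatLoc6.isCM_of_ringEquiv (polyEquivTensor R p.ResidueField).toRingEquiv
      (FlatLoc6.isCM_of_ringEquiv (MvPolynomial.finSuccEquiv p.ResidueField 0 |>.trans
        (Polynomial.mapAlgEquiv (MvPolynomial.isEmptyAlgEquiv p.ResidueField (Fin 0)))).toRingEquiv
        (FlatLoc6.isCM_of_isRegularRing _))
  have hF : (⟨q, ‹_›⟩ : PrimeSpectrum B) ∈ Module.support B B := by
    rw [Module.mem_support_iff]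
    exact (LC.selfLoc q.primeCompl).toEquiv.nontrivial
  have hp : (⟨p, inferInstance⟩ : PrimeSpectrum R) ∈ Module.support R R := by
    rw [Module.mem_support_iff]
    exact (LC.selfLoc p.primeCompl).toEquiv.nontrivial
  obtain ⟨h1, h2⟩ := FlatLoc6.formulas_atPrime B R p q rfl hF hp
  let e : LocalizedModule q.primeCompl (TensorProduct R B R) ≃ₗ[Localization.AtPrime q] Localization.AtPrime q :=
    (LocalizedModule.equivTensorProduct q.primeCompl _).trans
      ((TensorProduct.AlgebraTensorModule.congr (LinearEquiv.refl (Localization.AtPrime q) (Localization.AtPrime q))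
        (TensorProduct.AlgebraTensorModule.rid R B B)).trans
        (TensorProduct.AlgebraTensorModule.rid B (Localization.AtPrime q) (Localization.AtPrime q)))
  have hR := hR'.supportDim_eq_depth
  change Module.supportDim (Localization.AtPrime p) (Localization.AtPrime p) =
    ((LocCoh.depth (Localization.AtPrime p) (Localization.AtPrime p) : ℕ∞) : WithBot ℕ∞) at hR
  rw [← Module.supportDim_eq_of_equiv (LC.selfLoc p.primeCompl), ← FlatLoc6.depth_congr' (LC.selfLoc p.primeCompl)] at hR
  rw [← Module.supportDim_eq_of_equiv (M := LocalizedModule q.primeCompl (TensorProduct R B R)) (N := Localization.AtPrime q) (by exact e),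
    ← FlatLoc6.depth_congr' (M := LocalizedModule q.primeCompl (TensorProduct R B R)) (N := Localization.AtPrime q) (by exact e),
    h1, h2, hR, FlatLoc6.fib_eq_of_fiber_isCM p q rfl]
  rfl

variable {A : Type u} [CommRing A] (𝓕 : FiltBl.IdealFiltration A)

theorem isLocalization_away_u :
    letI := 𝓕.extRees.val.toRingHom.toAlgebra
    IsLocalization.Away 𝓕.u A[T;T⁻¹] := by
  letI := 𝓕.extRees.val.toRingHom.toAlgebra
  refine { map_units := ?_, surj := ?_, exists_of_eq := ?_ }
  · rintro ⟨_, n, rfl⟩
    change IsUnit ((𝓕.u ^ n : 𝓕.extRees) : A[T;T⁻¹])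
    rw [coe_u_pow]
    exact isUnit_T _
  · intro x
    obtain ⟨N, hN⟩ := exists_T_neg_mem 𝓕 x
    refine ⟨⟨⟨_, hN⟩, ⟨_, N, rfl⟩⟩, ?_⟩
    change x * ((𝓕.u ^ N : 𝓕.extRees) : A[T;T⁻¹]) = x * T (-(N : ℤ))
    rw [coe_u_pow]
  · intro x y h
    exact ⟨1, by rw [OneMemClass.coe_one, one_mul, one_mul]; exact Subtype.ext h⟩

variable [IsNoetherianRing A] (hfg : Algebra.FiniteType A 𝓕.rees)
include hfg

set_option maxHeartbeats 1600000 in
theorem cm_off_iff (G : Type u) [CommRing G] (φ : 𝓕.extRees →+* G) (hφ : Function.Surjective φ)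
    (hker : RingHom.ker φ = Ideal.span {𝓕.u}) (Rp : Ideal 𝓕.extRees)
    (hRp : Rp = Ideal.span {x : 𝓕.extRees | ∃ n : ℕ, 0 < n ∧ ∃ a ∈ 𝓕.F n,
      (x : LaurentPolynomial A) = LaurentPolynomial.C a * LaurentPolynomial.T (n : ℤ)}) :
    (∀ (P : Ideal 𝓕.extRees) [P.IsPrime], ¬ Rp ≤ P →
        LocCoh.IsCohenMacaulayLocalRing (Localization.AtPrime P)) ↔
      ((∀ (p : Ideal G) [p.IsPrime], ¬ Ideal.map φ Rp ≤ p →
          LocCoh.IsCohenMacaulayLocalRing (Localization.AtPrime p)) ∧
        (∀ (q : Ideal A) [q.IsPrime], ¬ 𝓕.F 1 ≤ q →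
            LocCoh.IsCohenMacaulayLocalRing (Localization.AtPrime q))) := by
  haveI := isNoetherian_extRees 𝓕 hfg
  haveI : IsNoetherianRing G := isNoetherianRing_of_surjective _ _ φ hφ
  let eG : 𝓕.extRees ⧸ Ideal.span {𝓕.u} ≃+* G :=
    (Ideal.quotEquivOfEq hker.symm).trans (RingHom.quotientKerEquivOfSurjective hφ)
  haveI : IsNoetherianRing (𝓕.extRees ⧸ Ideal.span {𝓕.u}) :=
    isNoetherianRing_of_surjective _ _ (Ideal.Quotient.mk _) Ideal.Quotient.mk_surjective
  have heG : eG.toRingHom.comp (Ideal.Quotient.mk _) = φ := RingHom.ext fun x => rfl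
  letI := 𝓕.extRees.val.toRingHom.toAlgebra
  haveI := isLocalization_away_u 𝓕
  haveI : IsNoetherianRing A[T;T⁻¹] := IsLocalization.isNoetherianRing (Submonoid.powers 𝓕.u) _ inferInstance
  constructor
  · intro h
    refine ⟨fun p _ hp => ?_, fun q _ hq => ?_⟩
    · let n := p.comap eG.toRingHom
      have hn : n.comap (Ideal.Quotient.mk (Ideal.span {𝓕.u})) = p.comap φ := by
        rw [Ideal.comap_comap, heG]
      haveI := h (p.comap φ) fun hle => hp (Ideal.map_le_iff_le_comap.2 hle)
      haveI : LocCoh.IsCohenMacaulayLocalRing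
          (Localization.AtPrime (n.comap (Ideal.Quotient.mk (Ideal.span {𝓕.u})))) :=
        cmLocal_congr hn.symm inferInstance
      haveI := cmLocal_quot_point (u_mem_nonZeroDivisors 𝓕) n
      exact @cmLocal_equiv_point (𝓕.extRees ⧸ Ideal.span {𝓕.u}) G _ _ _ _ eG n (Ideal.comap_isPrime _ _) p (by assumption) rfl (by assumption)
    · obtain ⟨a, ha, haq⟩ := SetLike.not_le_iff_exists.1 hq
      -- the prime `(q, X - 1)` of `A[X]`
      let ev : Polynomial A →+* A := Polynomial.evalRingHom 1
      let Q' := q.comap ev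
      have hXQ : ¬ (Polynomial.X : Polynomial A) ∈ Q' := fun hX => by
        refine ‹q.IsPrime›.ne_top ((Ideal.eq_top_iff_one q).2 ?_)
        simpa [ev, Q'] using hX
      have hdisj : Disjoint (Submonoid.powers (Polynomial.X : Polynomial A) : Set (Polynomial A)) (Q' : Set _) := by
        rw [Set.disjoint_left]
        rintro _ ⟨k, rfl⟩ hk
        exact hXQ ((inferInstance : Q'.IsPrime).mem_of_pow_mem k hk)
      let Q : Ideal A[T;T⁻¹] := Q'.map (algebraMap (Polynomial A) A[T;T⁻¹])
      haveI hQ : Q.IsPrime :=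
        IsLocalization.isPrime_of_isPrime_disjoint (Submonoid.powers Polynomial.X) _ Q' inferInstance hdisj
      have hQQ : Q.comap (algebraMap (Polynomial A) A[T;T⁻¹]) = Q' :=
        IsLocalization.under_map_of_isPrime_disjoint (Submonoid.powers Polynomial.X) _ inferInstance hdisj
      let P := Q.comap (algebraMap 𝓕.extRees A[T;T⁻¹])
      have hP : ¬ Rp ≤ P := fun hle => by
        have h1 : elt 𝓕 1 a (by simpa using ha) ∈ Rp := by
          rw [hRp]
          exact Ideal.subset_span ⟨1, one_pos, a, ha, rfl⟩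
        have h2 : C a * T 1 ∈ Q := hle h1
        have h3 : C a ∈ Q := (Ideal.mul_unit_mem_iff_mem Q (isUnit_T 1)).1 h2
        have h4 : Polynomial.C a ∈ Q' := by
          rw [← hQQ, Ideal.mem_comap]
          simpa [LaurentPolynomial.algebraMap_eq_toLaurent] using h3
        exact haq (by simpa [Q', ev] using h4)
      haveI := h P hP
      haveI := (cmLocal_localization_iff (Submonoid.powers 𝓕.u) Q P rfl).2 inferInstance
      haveI := (cmLocal_localization_iff (Submonoid.powers (Polynomial.X : Polynomial A)) Q Q' hQQ).1 inferInstance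
      have hf : (Polynomial.X - Polynomial.C (1 : A)) ∈ nonZeroDivisors (Polynomial A) :=
        (Polynomial.monic_X_sub_C 1).mem_nonZeroDivisors
      let eA : (Polynomial A ⧸ Ideal.span {Polynomial.X - Polynomial.C (1 : A)}) ≃+* A :=
        (Polynomial.quotientSpanXSubCAlgEquiv (1 : A)).toRingEquiv
      let n := q.comap eA.toRingHom
      have hn : n.comap (Ideal.Quotient.mk (Ideal.span {Polynomial.X - Polynomial.C (1 : A)})) = Q' := by
        rw [Ideal.comap_comap]
        rfl
      haveI : LocCoh.IsCohenMacaulayLocalRing (Localization.AtPrime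
          (n.comap (Ideal.Quotient.mk (Ideal.span {Polynomial.X - Polynomial.C (1 : A)})))) :=
        cmLocal_congr hn.symm inferInstance
      haveI := cmLocal_quot_point hf n
      exact @cmLocal_equiv_point _ _ _ _ _ _ eA n inferInstance q inferInstance rfl inferInstance
  · rintro ⟨hG, hA⟩ P _ hP
    by_cases hu : 𝓕.u ∈ P
    · have hkP : RingHom.ker φ ≤ P := hker ▸ (Ideal.span_singleton_le_iff_mem _).2 hu
      let p := P.map φ
      have hpp : p.IsPrime := Ideal.map_isPrime_of_surjective hφ hkP
      have hpP : p.comap φ = P := by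
        rw [Ideal.comap_map_of_surjective _ hφ, ← RingHom.ker_eq_comap_bot]
        exact sup_eq_left.2 hkP
      have hcm := hG p fun hle => hP (hpP ▸ Ideal.map_le_iff_le_comap.1 hle)
      let n := p.comap eG.toRingHom
      have hnp : n.IsPrime := Ideal.comap_isPrime _ _
      haveI :=
        @cmLocal_equiv_point_symm (𝓕.extRees ⧸ Ideal.span {𝓕.u}) G _ _ _ _ eG n hnp p hpp rfl hcm
      haveI := CMPointLib.isCMLocal_atPrime_of_quot (u_mem_nonZeroDivisors 𝓕) n
      have hnP : n.comap (Ideal.Quotient.mk (Ideal.span {𝓕.u})) = P := by rw [Ideal.comap_comap, heG, hpP]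
      exact cmLocal_congr hnP inferInstance
    · have hdisj : Disjoint (Submonoid.powers 𝓕.u : Set 𝓕.extRees) (P : Set 𝓕.extRees) := by
        rw [Set.disjoint_left]
        rintro _ ⟨k, rfl⟩ hk
        exact hu (‹P.IsPrime›.mem_of_pow_mem k hk)
      let Q := P.map (algebraMap 𝓕.extRees A[T;T⁻¹])
      haveI : Q.IsPrime :=
        IsLocalization.isPrime_of_isPrime_disjoint (Submonoid.powers 𝓕.u) _ P inferInstance hdisj
      have hQP : Q.comap (algebraMap 𝓕.extRees A[T;T⁻¹]) = P :=
        IsLocalization.under_map_of_isPrime_disjoint (Submonoid.powers 𝓕.u) _ inferInstance hdisj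
      let Q' := Q.comap (algebraMap (Polynomial A) A[T;T⁻¹])
      haveI := hA (Q'.comap Polynomial.C) fun hle => by
        refine hP (hRp ▸ Ideal.span_le.2 ?_)
        rintro x ⟨n, hn, a, ha, hx⟩
        rw [SetLike.mem_coe, ← hQP, Ideal.mem_comap]
        change (x : A[T;T⁻¹]) ∈ Q
        rw [hx]
        refine Q.mul_mem_right _ ?_
        have := hle (𝓕.antitone hn ha)
        simpa [Q', LaurentPolynomial.algebraMap_eq_toLaurent] using this
      haveI := cm_polynomial_point Q'
      haveI := (cmLocal_localization_iff (Submonoid.powers (Polynomial.X : Polynomial A)) Q Q' rfl).2 inferInstance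
      exact (cmLocal_localization_iff (Submonoid.powers 𝓕.u) Q P hQP).1 inferInstance

end Groth.Agent.FiltExt
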