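import Groth.Prelude.Def_W4c2filtblowupsingRees
import Groth.Prelude.Def_GrLC
import Groth.Agent.GrLib8.StarGor
import Mathlib.RingTheory.FiniteType
import Mathlib.RingTheory.GradedAlgebra.Homogeneous.Ideal
import Mathlib.Algebra.DirectSum.Decomposition

/-! The extended Rees algebra of a filtration as a *local graded ring. -/

set_option autoImplicit false
set_option linter.unusedSectionVars false

universe u

open LaurentPolynomial DirectSum

namespace Groth.Agent.FiltExt

variable {A : Type u} [CommRing A] (𝓕 : FiltBl.IdealFiltration A)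

theorem coeff_CT (a : A) (n j : ℤ) : (C a * T n : A[T;T⁻¹]).coeff j = if n = j then a else 0 := by
  rw [← single_eq_C_mul_T, AddMonoidAlgebra.coeff_single, Finsupp.single_apply]

/-- A homogeneous element. -/
noncomputable def elt (n : ℤ) (a : A) (ha : a ∈ 𝓕.F n.toNat) : 𝓕.extRees :=
  ⟨C a * T n, fun j => by
    rw [coeff_CT]
    split_ifs with h
    · exact h ▸ ha
    · exact zero_mem _⟩

theorem coeff_elt (n : ℤ) (a : A) (ha : a ∈ 𝓕.F n.toNat) (j : ℤ) :
    (elt 𝓕 n a ha).1.coeff j = if n = j then a else 0 := coeff_CT a n j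

theorem ext_coeff {f g : 𝓕.extRees} (h : ∀ j, f.1.coeff j = g.1.coeff j) : f = g :=
  Subtype.ext (AddMonoidAlgebra.ext (Finsupp.ext h))

/-- The pieces. -/
def egr (n : ℤ) : AddSubgroup 𝓕.extRees where
  carrier := {f | ∀ j, j ≠ n → f.1.coeff j = 0}
  add_mem' {p q} hp hq j hj := by simp [hp j hj, hq j hj]
  zero_mem' j _ := by simp
  neg_mem' {p} hp j hj := by simp [hp j hj]

theorem mem_egr {n : ℤ} {f : 𝓕.extRees} : f ∈ egr 𝓕 n ↔ ∀ j, j ≠ n → f.1.coeff j = 0 := Iff.rfl

theorem elt_mem (n : ℤ) (a : A) (ha : a ∈ 𝓕.F n.toNat) : elt 𝓕 n a ha ∈ egr 𝓕 n := fun j hj => by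
  rw [coeff_elt, if_neg (Ne.symm hj)]

theorem eq_elt_of_mem {n : ℤ} {f : 𝓕.extRees} (hf : f ∈ egr 𝓕 n) : f = elt 𝓕 n (f.1.coeff n) (f.2 n) :=
  ext_coeff 𝓕 fun j => by
    rw [coeff_elt]
    split_ifs with h
    · rw [h]
    · exact hf j (Ne.symm h)

theorem component_coe (j : ℤ) (x : ⨁ d : ℤ, egr 𝓕 d) :
    (DirectSum.coeAddMonoidHom (egr 𝓕) x).1.coeff j = (x j : 𝓕.extRees).1.coeff j := by
  classical
  induction x using DirectSum.induction_on with
  | zero => simp
  | of d y =>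
    rw [DirectSum.coeAddMonoidHom_of]
    rcases eq_or_ne d j with rfl | hne
    · rw [DirectSum.of_eq_same]
    · rw [DirectSum.of_eq_of_ne _ _ _ hne.symm]
      simpa using y.2 j hne.symm
  | add a b ha hb => simp [ha, hb]

theorem sum_elt (f : 𝓕.extRees) :
    f = ∑ n ∈ f.1.coeff.support, elt 𝓕 n (f.1.coeff n) (f.2 n) := by
  classical
  refine ext_coeff 𝓕 fun j => ?_
  simp only [AddSubmonoidClass.coe_finsetSum, AddMonoidAlgebra.coeff_sum, Finsupp.finsetSum_apply, coeff_elt]
  rw [Finset.sum_ite_eq']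
  split_ifs with h
  · rfl
  · exact Finsupp.notMem_support_iff.1 h

theorem egr_isInternal : DirectSum.IsInternal (egr 𝓕) := by
  classical
  constructor
  · intro x y hxy
    refine DFinsupp.ext fun d => Subtype.ext (ext_coeff 𝓕 fun j => ?_)
    rcases eq_or_ne j d with rfl | hne
    · rw [← component_coe, ← component_coe, hxy]
    · exact ((x d).2 j hne).trans ((y d).2 j hne).symm
  · intro f
    refine ⟨∑ n ∈ f.1.coeff.support, DirectSum.of (fun i => egr 𝓕 i) n
      ⟨elt 𝓕 n (f.1.coeff n) (f.2 n), elt_mem 𝓕 n _ _⟩, ?_⟩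
    rw [map_sum]
    simp only [DirectSum.coeAddMonoidHom_of]
    exact (sum_elt 𝓕 f).symm

/-- The grading of the extended Rees algebra. -/
@[instance_reducible]
noncomputable def egrGraded : GradedRing (egr 𝓕) where
  one_mem := fun j hj => by
    show (1 : A[T;T⁻¹]).coeff j = 0
    rw [← T_zero, T_apply, if_neg (Ne.symm hj)]
  mul_mem := fun i j a b ha hb l hl => by
    rw [eq_elt_of_mem 𝓕 ha, eq_elt_of_mem 𝓕 hb]
    show (C (a.1.coeff i) * T i * (C (b.1.coeff j) * T j) : A[T;T⁻¹]).coeff l = 0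
    rw [show (C (a.1.coeff i) * T i * (C (b.1.coeff j) * T j) : A[T;T⁻¹]) =
      C (a.1.coeff i * b.1.coeff j) * T (i + j) by rw [map_mul, T_add]; ring, coeff_CT, if_neg (Ne.symm hl)]
  toDecomposition := DirectSum.IsInternal.chooseDecomposition _ (egr_isInternal 𝓕)

theorem decompose_coeff (f : 𝓕.extRees) (d j : ℤ) :
    letI := egrGraded 𝓕
    (decompose (egr 𝓕) f d : 𝓕.extRees).1.coeff j = if d = j then f.1.coeff j else 0 := by
  letI := egrGraded 𝓕
  split_ifs with h
  · subst h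
    rw [← component_coe]
    congr 2
    exact congrArg Subtype.val ((decompose (egr 𝓕)).symm_apply_apply f)
  · exact (decompose (egr 𝓕) f d).2 j (Ne.symm h)

variable [IsLocalRing A]

variable (hsep : ⨅ n, 𝓕.F n = ⊥)
include hsep

theorem F_le_max {n : ℕ} (hn : 1 ≤ n) : 𝓕.F n ≤ IsLocalRing.maximalIdeal A := by
  refine (𝓕.antitone hn).trans (IsLocalRing.le_maximalIdeal fun h1 => ?_)
  have hall : ∀ j, 𝓕.F j = ⊤ := fun j => by
    induction j with
    | zero => exact 𝓕.zero_eq
    | succ j ih => exact top_unique (le_trans (by rw [ih, h1, Ideal.top_mul]) (𝓕.mul_le j 1))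
  exact one_ne_zero ((Submodule.mem_bot A).1 (hsep ▸ (Submodule.mem_iInf _).2 fun j => hall j ▸ Submodule.mem_top) :
    (1 : A) = 0)

/-- The residue map at the *maximal ideal. -/
noncomputable def toResidue : 𝓕.extRees →+* IsLocalRing.ResidueField A where
  toFun f := IsLocalRing.residue A (f.1.coeff 0)
  map_one' := by
    show IsLocalRing.residue A ((1 : A[T;T⁻¹]).coeff 0) = 1
    rw [← T_zero, T_apply, if_pos rfl, map_one]
  map_zero' := by simp
  map_add' f g := by simp
  map_mul' f g := by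
    classical
    have hvan : ∀ (h : 𝓕.extRees) (i : ℤ), 0 < i → IsLocalRing.residue A (h.1.coeff i) = 0 := fun h i hi =>
      (IsLocalRing.residue_eq_zero_iff _).2 (F_le_max 𝓕 hsep (n := i.toNat) (by omega) (h.2 i))
    show IsLocalRing.residue A ((f.1 * g.1).coeff 0) = _
    rw [AddMonoidAlgebra.coeff_mul]
    simp only [Finsupp.sum, map_sum, apply_ite (IsLocalRing.residue A), map_mul, map_zero]
    rw [Finset.sum_eq_single 0]
    · rw [Finset.sum_eq_single 0]
      · simp
      · intro j _ hj; rw [if_neg (by omega)]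
      · intro hj; rw [Finsupp.notMem_support_iff.1 hj]; simp
    · intro i _ hi
      refine Finset.sum_eq_zero fun j _ => ?_
      split_ifs with h
      · rcases lt_or_gt_of_ne hi with hlt | hgt
        · rw [hvan g j (by omega), mul_zero]
        · rw [hvan f i hgt, zero_mul]
      · rfl
    · intro hi
      refine Finset.sum_eq_zero fun j _ => ?_
      rw [Finsupp.notMem_support_iff.1 hi]
      simp

theorem mem_ker_toResidue {f : 𝓕.extRees} :
    f ∈ RingHom.ker (toResidue 𝓕 hsep) ↔ f.1.coeff 0 ∈ IsLocalRing.maximalIdeal A :=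
  RingHom.mem_ker.trans (IsLocalRing.residue_eq_zero_iff _)

theorem isMaximal_ker : (RingHom.ker (toResidue 𝓕 hsep)).IsMaximal :=
  RingHom.ker_isMaximal_of_surjective _ fun c => by
    obtain ⟨a, rfl⟩ := IsLocalRing.residue_surjective c
    refine ⟨elt 𝓕 0 a (by simp [𝓕.zero_eq]), ?_⟩
    show IsLocalRing.residue A _ = _
    rw [coeff_elt, if_pos rfl]

/-- The *maximal ideal. -/
noncomputable def mstar : letI := egrGraded 𝓕; HomogeneousIdeal (egr 𝓕) :=
  letI := egrGraded 𝓕
  ⟨RingHom.ker (toResidue 𝓕 hsep), fun i f hf => by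
    rw [mem_ker_toResidue, decompose_coeff]
    split_ifs
    · exact (mem_ker_toResidue 𝓕 hsep).1 hf
    · exact zero_mem _⟩

theorem isStarLocal_mstar : letI := egrGraded 𝓕; GrLC.IsStarLocal (egr 𝓕) (mstar 𝓕 hsep) := by
  letI := egrGraded 𝓕
  have hle : ∀ J : HomogeneousIdeal (egr 𝓕), J ≠ ⊤ → J ≤ mstar 𝓕 hsep := fun J hJ f hf => by
    show f ∈ RingHom.ker (toResidue 𝓕 hsep)
    rw [mem_ker_toResidue]
    by_contra hu
    obtain ⟨b, hb⟩ := isUnit_iff_exists_inv.1 (IsLocalRing.notMem_maximalIdeal.1 hu)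
    refine hJ (HomogeneousIdeal.toIdeal_injective ?_)
    rw [HomogeneousIdeal.toIdeal_top]
    have h1 : (decompose (egr 𝓕) f 0 : 𝓕.extRees) ∈ J.toIdeal := J.isHomogeneous 0 hf
    rw [Ideal.eq_top_iff_one]
    have h2 : elt 𝓕 0 b (by simp [𝓕.zero_eq]) * (decompose (egr 𝓕) f 0 : 𝓕.extRees) = 1 := by
      refine Subtype.ext ?_
      show C b * T 0 * (decompose (egr 𝓕) f 0 : 𝓕.extRees).1 = 1
      rw [congrArg Subtype.val (eq_elt_of_mem 𝓕 (decompose (egr 𝓕) f 0).2)]
      show C b * T 0 * (C ((decompose (egr 𝓕) f 0 : 𝓕.extRees).1.coeff 0) * T 0) = 1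
      rw [decompose_coeff, if_pos rfl, T_zero, mul_one, mul_one, ← map_mul, mul_comm, hb, map_one]
    exact h2 ▸ Ideal.mul_mem_left _ _ h1
  have hne : mstar 𝓕 hsep ≠ ⊤ := fun h => (isMaximal_ker 𝓕 hsep).ne_top
    ((congrArg HomogeneousIdeal.toIdeal h).trans HomogeneousIdeal.toIdeal_top)
  refine ⟨⟨hne, fun J hJ => ?_⟩, fun J hJ => ?_⟩
  · by_contra h
    exact hJ.not_ge (hle J h)
  · rcases (hle J hJ.1).lt_or_eq with h | h
    · exact absurd (hJ.2 _ h) hne
    · exact h

theorem u_mem_mstar : 𝓕.u ∈ RingHom.ker (toResidue 𝓕 hsep) := by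
  rw [mem_ker_toResidue]
  show ((T (-1) : A[T;T⁻¹]).coeff 0) ∈ _
  rw [T_apply, if_neg (by omega)]
  exact zero_mem _

omit hsep
omit [IsLocalRing A]

theorem u_mem_nonZeroDivisors : 𝓕.u ∈ nonZeroDivisors 𝓕.extRees := by
  have hu : IsUnit (T (-1) : A[T;T⁻¹]) := isUnit_T _
  refine mem_nonZeroDivisors_iff_right.2 fun f hf => Subtype.ext ?_
  have := congrArg Subtype.val hf
  exact hu.mul_left_eq_zero.1 this

theorem isNoetherian_extRees [IsNoetherianRing A] (hfg : Algebra.FiniteType A 𝓕.rees) :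
    IsNoetherianRing 𝓕.extRees := by
  haveI : IsNoetherianRing 𝓕.rees := Algebra.FiniteType.isNoetherianRing A 𝓕.rees
  let ψ : 𝓕.rees →+* 𝓕.extRees :=
    { toFun := fun p => ⟨Polynomial.toLaurent p.1, fun j => by
        classical
        have h : ∀ q : Polynomial A, (∀ i, q.coeff i ∈ 𝓕.F i) → (Polynomial.toLaurent q).coeff j ∈ 𝓕.F j.toNat := by
          intro q hq
          rw [q.as_sum_range_C_mul_X_pow, map_sum, AddMonoidAlgebra.coeff_sum, Finsupp.finsetSum_apply]
          refine Ideal.sum_mem _ fun i _ => ?_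
          rw [Polynomial.toLaurent_C_mul_X_pow, coeff_CT]
          split_ifs with hij
          · subst hij; simpa using hq i
          · exact zero_mem _
        exact h p.1 p.2⟩
      map_one' := Subtype.ext (map_one _)
      map_mul' := fun p q => Subtype.ext (map_mul _ _ _)
      map_zero' := Subtype.ext (map_zero _)
      map_add' := fun p q => Subtype.ext (map_add _ _ _) }
  refine isNoetherianRing_of_surjective (Polynomial 𝓕.rees) _ (Polynomial.eval₂RingHom ψ 𝓕.u) fun f => ?_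
  suffices hterm : ∀ n : ℤ, ∃ q, Polynomial.eval₂RingHom ψ 𝓕.u q = elt 𝓕 n (f.1.coeff n) (f.2 n) by
    choose q hq using hterm
    exact ⟨∑ n ∈ f.1.coeff.support, q n, by
      rw [map_sum, Finset.sum_congr rfl fun n _ => hq n]
      exact (sum_elt 𝓕 f).symm⟩
  intro n
  rcases lt_or_ge n 0 with hn | hn
  · obtain ⟨m, rfl⟩ : ∃ m : ℕ, n = -(m : ℤ) := ⟨n.natAbs, by omega⟩
    refine ⟨Polynomial.C (algebraMap A 𝓕.rees (f.1.coeff (-m))) * Polynomial.X ^ m, Subtype.ext ?_⟩
    rw [map_mul, map_pow, Polynomial.coe_eval₂RingHom, Polynomial.eval₂_C, Polynomial.eval₂_X]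
    show Polynomial.toLaurent (Polynomial.C (f.1.coeff (-m))) * (T (-1)) ^ m = C _ * T _
    rw [Polynomial.toLaurent_C, T_pow]
    congr 2
    omega
  · obtain ⟨m, rfl⟩ := Int.eq_ofNat_of_zero_le hn
    have hmem : (Polynomial.C (f.1.coeff m) * Polynomial.X ^ m) ∈ 𝓕.rees := fun i => by
      rw [Polynomial.coeff_C_mul, Polynomial.coeff_X_pow]
      split_ifs with h
      · subst h; rw [mul_one]; simpa using f.2 (i : ℤ)
      · rw [mul_zero]; exact zero_mem _
    refine ⟨Polynomial.C ⟨_, hmem⟩, Subtype.ext ?_⟩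
    rw [Polynomial.coe_eval₂RingHom, Polynomial.eval₂_C]
    exact Polynomial.toLaurent_C_mul_X_pow m _

end Groth.Agent.FiltExt
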