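import Groth.Agent.FiltExt.Grading
import Groth.Agent.FiltExt.Quot

/-! Extended Rees algebra versus associated graded ring. -/

set_option autoImplicit false

universe u

namespace Groth.Agent.FiltExt

variable {A : Type u} [CommRing A] [IsNoetherianRing A] [IsLocalRing A] (𝓕 : FiltBl.IdealFiltration A)
variable (hsep : ⨅ n, 𝓕.F n = ⊥) (hfg : Algebra.FiniteType A 𝓕.rees)
include hsep hfg

theorem exists_prime_over :
    ∃ (n : Ideal (𝓕.extRees ⧸ Ideal.span {𝓕.u})) (_ : n.IsPrime),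
      n.comap (Ideal.Quotient.mk (Ideal.span {𝓕.u})) = RingHom.ker (toResidue 𝓕 hsep) := by
  haveI := isMaximal_ker 𝓕 hsep
  have hle : Ideal.span {𝓕.u} ≤ RingHom.ker (toResidue 𝓕 hsep) :=
    (Ideal.span_singleton_le_iff_mem _).2 (u_mem_mstar 𝓕 hsep)
  refine ⟨(RingHom.ker (toResidue 𝓕 hsep)).map (Ideal.Quotient.mk _),
    Ideal.map_isPrime_of_surjective Ideal.Quotient.mk_surjective (by rw [Ideal.mk_ker]; exact hle), ?_⟩
  rw [Ideal.comap_map_of_surjective _ Ideal.Quotient.mk_surjective, ← RingHom.ker_eq_comap_bot, Ideal.mk_ker]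
  exact sup_eq_left.2 hle

theorem cm_iff : LocCoh.IsCohenMacaulayRing 𝓕.extRees ↔ LocCoh.IsCohenMacaulayRing 𝓕.Gr := by
  haveI := isNoetherian_extRees 𝓕 hfg
  refine ⟨fun _ => cmRing_quot (u_mem_nonZeroDivisors 𝓕), fun hQ => ?_⟩
  letI := egrGraded 𝓕
  haveI : (mstar 𝓕 hsep).toIdeal.IsPrime := (isMaximal_ker 𝓕 hsep).isPrime
  obtain ⟨n, hn, hcomap⟩ := exists_prime_over 𝓕 hsep hfg
  haveI := cmLocal_of_cmRing_quot (p := (mstar 𝓕 hsep).toIdeal) (u_mem_nonZeroDivisors 𝓕) hQ n hcomap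
  exact cmRing_of_atStarMax (isStarLocal_mstar 𝓕 hsep)

theorem gorenstein_iff : LocCoh.IsGorensteinRing 𝓕.extRees ↔ LocCoh.IsGorensteinRing 𝓕.Gr := by
  haveI := isNoetherian_extRees 𝓕 hfg
  refine ⟨fun _ => gorensteinRing_quot (u_mem_nonZeroDivisors 𝓕), fun hQ => ?_⟩
  letI := egrGraded 𝓕
  haveI : (mstar 𝓕 hsep).toIdeal.IsPrime := (isMaximal_ker 𝓕 hsep).isPrime
  obtain ⟨n, hn, hcomap⟩ := exists_prime_over 𝓕 hsep hfg
  exact GrLib8.StarGor.gorensteinRing_of_atStarMax (isStarLocal_mstar 𝓕 hsep)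
    (gorLocal_of_gorRing_quot (u_mem_nonZeroDivisors 𝓕) hQ n hcomap)

end Groth.Agent.FiltExt
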