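import Groth.Agent.FiltExt.CMOff
import Groth.Agent.FlatLoc6.CutDown
import Groth.Agent.FlatLoc6.NormalAscent

/-! `(S_2)` of the extended Rees algebra. -/

set_option autoImplicit false
set_option linter.style.haveILetI false

universe u

open LaurentPolynomial Groth.Agent.FlatLoc6

namespace Groth.Agent.FiltExt

/-- The inequality of `(S_k)` at one prime. -/
def SkPt (k : ℕ) {R : Type u} [CommRing R] (P : Ideal R) [P.IsPrime] : Prop :=
  min (k : ℕ∞) P.height ≤ LocCoh.depth (Localization.AtPrime P) (Localization.AtPrime P)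

theorem skPt_congr {k : ℕ} {R : Type u} [CommRing R] {P P' : Ideal R} [P.IsPrime] [P'.IsPrime] (h : P = P')
    (hP : SkPt k P) : SkPt k P' := by
  subst h; exact hP

theorem skPt_localization_iff {k : ℕ} {R S : Type u} [CommRing R] [CommRing S] [Algebra R S]
    (M : Submonoid R) [IsLocalization M S] (Q : Ideal S) [Q.IsPrime] (P : Ideal R) [P.IsPrime]
    (hP : Q.comap (algebraMap R S) = P) : SkPt k Q ↔ SkPt k P := by
  subst hP
  haveI := IsLocalization.isLocalization_isLocalization_atPrime_isLocalization M (Localization.AtPrime Q) Q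
  let e := (IsLocalization.algEquiv (Q.comap (algebraMap R S)).primeCompl
    (Localization.AtPrime (Q.comap (algebraMap R S))) (Localization.AtPrime Q)).toRingEquiv
  have hd : LocCoh.depth (Localization.AtPrime (Q.comap (algebraMap R S)))
      (Localization.AtPrime (Q.comap (algebraMap R S))) =
      LocCoh.depth (Localization.AtPrime Q) (Localization.AtPrime Q) :=
    Alg6.depth_eq_of_semilinear e.toRingHom e.surjective e.toAddEquiv fun r x => e.map_mul r x
  have hh : (Q.comap (algebraMap R S)).height = Q.height := by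
    have := ringKrullDim_eq_of_ringEquiv e
    rw [IsLocalization.AtPrime.ringKrullDim_eq_height (Q.comap (algebraMap R S))
      (Localization.AtPrime (Q.comap (algebraMap R S))), IsLocalization.AtPrime.ringKrullDim_eq_height Q
      (Localization.AtPrime Q), WithBot.coe_inj] at this
    exact this
  unfold SkPt
  rw [hd, hh]

theorem fib_isCM {R : Type u} [CommRing R] (p : Ideal R) [p.IsPrime] :
    LocCoh.IsCohenMacaulayRing (p.Fiber (Polynomial R)) :=
  isCM_of_ringEquiv (polyEquivTensor R p.ResidueField).toRingEquiv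
    (isCM_of_ringEquiv (MvPolynomial.finSuccEquiv p.ResidueField 0 |>.trans
      (Polynomial.mapAlgEquiv (MvPolynomial.isEmptyAlgEquiv p.ResidueField (Fin 0)))).toRingEquiv
      (isCM_of_isRegularRing _))

/-- `(S_k)` ascends to a polynomial ring, pointwise. -/
theorem skPt_polynomial {k : ℕ} {R : Type u} [CommRing R] [IsNoetherianRing R] (q : Ideal (Polynomial R)) [q.IsPrime]
    (h : SkPt k (q.comap (algebraMap R (Polynomial R)))) : SkPt k q := by
  haveI := fib_isCM (q.comap (algebraMap R (Polynomial R)))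
  refine sk_self_ascend k q ?_ h
  rw [fib_eq_of_fiber_isCM _ q rfl]
  exact min_le_right _ _

/-- At the generic point of the fibre over `q` nothing changes. -/
theorem skPt_of_polynomial {k : ℕ} {R : Type u} [CommRing R] [IsNoetherianRing R] (q : Ideal R) [q.IsPrime]
    (h : SkPt k (q.map (Polynomial.C : R →+* Polynomial R))) : SkPt k q := by
  let B := Polynomial R
  let Q : Ideal B := q.map (Polynomial.C : R →+* Polynomial R)
  have hQq : Q.comap (algebraMap R B) = q := by
    refine Ideal.ext fun x => ⟨fun hx => ?_, fun hx => Ideal.mem_map_of_mem _ hx⟩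
    have := Ideal.mem_map_C_iff.1 hx 0
    simpa [B] using this
  haveI := isLocalRing_fibLocRing (A := R) Q
  haveI : IsNoetherianRing (Localization.AtPrime Q) := IsLocalization.isNoetherianRing Q.primeCompl _ inferInstance
  have hdim : fibDim R Q B = 0 := by
    rw [fibDim_self]
    refine ringKrullDim_eq_zero_of_isField ((Ideal.Quotient.maximal_ideal_iff_isField_quotient _).1 ?_)
    have hJ : (Q.comap (algebraMap R B)).map (algebraMap R (Localization.AtPrime Q)) =
        IsLocalRing.maximalIdeal (Localization.AtPrime Q) := by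
      rw [hQq, IsScalarTower.algebraMap_eq R B (Localization.AtPrime Q), ← Ideal.map_map]
      exact IsLocalization.AtPrime.map_eq_maximalIdeal Q (Localization.AtPrime Q)
    rw [hJ]
    exact IsLocalRing.maximalIdeal.isMaximal _
  haveI := fib_isCM q
  have hdepth : fibDepth R Q B = 0 := by
    have := fib_eq_of_fiber_isCM q Q hQq
    rw [hdim] at this
    exact WithBot.coe_eq_coe.1 this.symm
  have hB : (⟨Q, inferInstance⟩ : PrimeSpectrum B) ∈ Module.support B B := by
    rw [Module.mem_support_iff]
    exact (LC.selfLoc Q.primeCompl).toEquiv.nontrivial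
  have hA' : (⟨q, inferInstance⟩ : PrimeSpectrum R) ∈ Module.support R R := by
    rw [Module.mem_support_iff]
    exact (LC.selfLoc q.primeCompl).toEquiv.nontrivial
  obtain ⟨h1, h2⟩ := formulas_atPrime B R q Q hQq hB hA'
  let e : LocalizedModule Q.primeCompl (TensorProduct R B R) ≃ₗ[Localization.AtPrime Q] LocalizedModule Q.primeCompl B :=
    IsLocalizedModule.mapEquiv Q.primeCompl (LocalizedModule.mkLinearMap _ _) (LocalizedModule.mkLinearMap _ _)
      (Localization.AtPrime Q) (TensorProduct.AlgebraTensorModule.rid R B B)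
  rw [Hensel.depth_congr e, depth_self_atPrime, depth_self_atPrime, hdepth, add_zero] at h1
  rw [Module.supportDim_eq_of_equiv e, supportDim_self_atPrime, supportDim_self_atPrime, hdim, add_zero,
    WithBot.coe_inj] at h2
  unfold SkPt at h ⊢
  rwa [← h1, ← h2]

theorem cut {S : Type u} [CommRing S] [IsNoetherianRing S] {t : S} (ht : t ∈ nonZeroDivisors S) (k : ℕ)
    (n : Ideal (S ⧸ Ideal.span {t})) [n.IsPrime] :
    SkPt (k + 1) (n.comap (Ideal.Quotient.mk (Ideal.span {t}))) ↔ SkPt k n := by
  obtain ⟨q', hq', hc, hd, hh, -⟩ := cut_atPrime ht (n.comap (Ideal.Quotient.mk (Ideal.span {t}))) (mem_comap ht n)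
  obtain rfl : q' = n := Ideal.comap_injective_of_surjective _ Ideal.Quotient.mk_surjective hc
  unfold SkPt
  rw [← hd, ← hh, Nat.cast_add, Nat.cast_one, min_add_add_right, ENat.add_le_add_iff_right ENat.one_ne_top]

variable {A : Type u} [CommRing A] (𝓕 : FiltBl.IdealFiltration A) [IsNoetherianRing A]
  (hfg : Algebra.FiniteType A 𝓕.rees)
include hfg

theorem sk_two_iff :
    LocCoh.HasSk 2 𝓕.extRees 𝓕.extRees ↔ (LocCoh.HasSk 1 𝓕.Gr 𝓕.Gr ∧ LocCoh.HasSk 2 A A) := by
  haveI := isNoetherian_extRees 𝓕 hfg
  haveI : IsNoetherianRing 𝓕.Gr :=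
    isNoetherianRing_of_surjective _ _ (Ideal.Quotient.mk _) Ideal.Quotient.mk_surjective
  rw [hasSk_self_iff, hasSk_self_iff, hasSk_self_iff]
  letI := 𝓕.extRees.val.toRingHom.toAlgebra
  haveI := isLocalization_away_u 𝓕
  constructor
  · intro h
    refine ⟨fun n _ => (cut (u_mem_nonZeroDivisors 𝓕) 1 n).1 (h _), fun q _ => ?_⟩
    let Q' : Ideal (Polynomial A) := q.map Polynomial.C
    have hXQ : ¬ (Polynomial.X : Polynomial A) ∈ Q' := fun hX => by
      have := Ideal.mem_map_C_iff.1 hX 1
      rw [Polynomial.coeff_X_one] at this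
      exact ‹q.IsPrime›.ne_top ((Ideal.eq_top_iff_one q).2 this)
    have hdisj : Disjoint (Submonoid.powers (Polynomial.X : Polynomial A) : Set (Polynomial A)) (Q' : Set _) := by
      rw [Set.disjoint_left]
      rintro _ ⟨j, rfl⟩ hj
      exact hXQ ((inferInstance : Q'.IsPrime).mem_of_pow_mem j hj)
    let Q : Ideal A[T;T⁻¹] := Q'.map (algebraMap (Polynomial A) A[T;T⁻¹])
    haveI hQ : Q.IsPrime :=
      IsLocalization.isPrime_of_isPrime_disjoint (Submonoid.powers Polynomial.X) _ Q' inferInstance hdisj
    have hQQ : Q.comap (algebraMap (Polynomial A) A[T;T⁻¹]) = Q' :=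
      IsLocalization.under_map_of_isPrime_disjoint (Submonoid.powers Polynomial.X) _ inferInstance hdisj
    have h1 : SkPt 2 (Q.comap (algebraMap 𝓕.extRees A[T;T⁻¹])) := h _
    have h2 := (skPt_localization_iff (Submonoid.powers 𝓕.u) Q _ rfl).2 h1
    exact skPt_of_polynomial q ((skPt_localization_iff (Submonoid.powers (Polynomial.X : Polynomial A)) Q Q' hQQ).1 h2)
  · rintro ⟨hG, hA⟩ P hPp
    by_cases hu : 𝓕.u ∈ P
    · have hle : Ideal.span {𝓕.u} ≤ P := (Ideal.span_singleton_le_iff_mem _).2 hu
      haveI : (P.map (Ideal.Quotient.mk (Ideal.span {𝓕.u}))).IsPrime :=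
        Ideal.map_isPrime_of_surjective Ideal.Quotient.mk_surjective (by rw [Ideal.mk_ker]; exact hle)
      refine skPt_congr ?_ ((cut (u_mem_nonZeroDivisors 𝓕) 1 _).2 (hG (P.map (Ideal.Quotient.mk _))))
      rw [Ideal.comap_map_of_surjective' _ Ideal.Quotient.mk_surjective, Ideal.mk_ker, sup_eq_left.mpr hle]
    · have hdisj : Disjoint (Submonoid.powers 𝓕.u : Set 𝓕.extRees) (P : Set 𝓕.extRees) := by
        rw [Set.disjoint_left]
        rintro _ ⟨j, rfl⟩ hj
        exact hu (hPp.mem_of_pow_mem j hj)
      let Q := P.map (algebraMap 𝓕.extRees A[T;T⁻¹])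
      haveI : Q.IsPrime :=
        IsLocalization.isPrime_of_isPrime_disjoint (Submonoid.powers 𝓕.u) _ P inferInstance hdisj
      have hQP : Q.comap (algebraMap 𝓕.extRees A[T;T⁻¹]) = P :=
        IsLocalization.under_map_of_isPrime_disjoint (Submonoid.powers 𝓕.u) _ inferInstance hdisj
      have h1 := skPt_polynomial (k := 2) (Q.comap (algebraMap (Polynomial A) A[T;T⁻¹])) (hA _)
      have h2 := (skPt_localization_iff (Submonoid.powers (Polynomial.X : Polynomial A)) Q _ rfl).2 h1
      exact (skPt_localization_iff (Submonoid.powers 𝓕.u) Q P hQP).1 h2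

end Groth.Agent.FiltExt
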